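import Mathlib

/-!
# Dimension equals transcendence degree
-/

set_option autoImplicit false
universe u v w

open Order

namespace Groth.Agent.DimTrdeg

/-- An injective integral extension preserves the Krull dimension. -/
theorem ringKrullDim_eq_of_isIntegral (R : Type u) (S : Type v) [CommRing R] [CommRing S]
    [Algebra R S] [Algebra.IsIntegral R S] (hinj : Function.Injective (algebraMap R S)) :
    ringKrullDim S = ringKrullDim R := by
  apply le_antisymm
  · refine krullDim_le_of_strictMono (PrimeSpectrum.comap (algebraMap R S)) fun P Q h => ?_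
    exact Ideal.IsIntegral.comap_lt_comap (R := R) (show P.asIdeal < Q.asIdeal from h)
  · refine iSup_le fun l => ?_
    obtain ⟨P, hP⟩ : l.head ∈ Set.range (PrimeSpectrum.comap (algebraMap R S)) := by
      obtain ⟨Q, -, hQ, hQ'⟩ := Ideal.exists_ideal_over_prime_of_isIntegral l.head.asIdeal
        (⊥ : Ideal S) (by
          intro x hx
          have : algebraMap R S x = 0 := hx
          rw [show x = 0 from hinj (by rw [this, map_zero])]
          exact zero_mem _)
      exact ⟨⟨Q, hQ⟩, PrimeSpectrum.ext hQ'⟩
    have : P.asIdeal.LiesOver l.head.asIdeal := ⟨by rw [← hP]; rfl⟩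
    obtain ⟨L, hL, -, -⟩ := Ideal.exists_ltSeries_of_hasGoingUp l P.asIdeal
    exact le_iSup_of_le L (by rw [hL])

/-- The Krull dimension of a domain of finite type over a field is its transcendence degree. -/
theorem exists_trdeg_eq_ringKrullDim (k S : Type u) [Field k] [CommRing S] [IsDomain S]
    [Algebra k S] [Algebra.FiniteType k S] :
    ∃ n : ℕ, Algebra.trdeg k S = n ∧ ringKrullDim S = n := by
  obtain ⟨s, g, hg, hint⟩ := exists_integral_inj_algHom_of_fg k S
  let := g.toRingHom.toAlgebra
  have : IsScalarTower k (MvPolynomial (Fin s) k) S :=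
    IsScalarTower.of_algebraMap_eq fun x => (g.commutes x).symm
  have : Algebra.IsIntegral (MvPolynomial (Fin s) k) S := ⟨hint⟩
  have : FaithfulSMul (MvPolynomial (Fin s) k) S :=
    (faithfulSMul_iff_algebraMap_injective _ _).mpr hg
  refine ⟨s, ?_, ?_⟩
  · rw [← trdeg_add_eq k (MvPolynomial (Fin s) k) (A := S), MvPolynomial.trdeg_of_isDomain,
      trdeg_eq_zero (R := MvPolynomial (Fin s) k) (A := S)]
    simp
  · rw [ringKrullDim_eq_of_isIntegral (MvPolynomial (Fin s) k) S hg,
      MvPolynomial.ringKrullDim_of_isNoetherianRing, ringKrullDim_eq_zero_of_field]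
    simp

/-- Passing to an algebraic extension does not change the transcendence degree. -/
theorem trdeg_eq_of_isAlgebraic (k A B : Type u) [CommRing k] [Nontrivial k] [CommRing A]
    [CommRing B] [NoZeroDivisors B] [Algebra k A] [Algebra k B] [Algebra A B]
    [IsScalarTower k A B] [FaithfulSMul k A] [FaithfulSMul A B] [Algebra.IsAlgebraic A B] :
    Algebra.trdeg k B = Algebra.trdeg k A := by
  rw [← trdeg_add_eq k A (A := B), trdeg_eq_zero (R := A) (A := B), add_zero]

/-- The transcendence degree of the fraction field. -/
theorem trdeg_fractionRing (k S L : Type u) [Field k] [CommRing S] [IsDomain S] [Algebra k S]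
    [Field L] [Algebra S L] [IsFractionRing S L] [Algebra k L] [IsScalarTower k S L] :
    Algebra.trdeg k L = Algebra.trdeg k S := by
  have : Algebra.IsAlgebraic S L := IsLocalization.isAlgebraic L (nonZeroDivisors S)
  exact trdeg_eq_of_isAlgebraic k S L

end Groth.Agent.DimTrdeg
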