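import Mathlib
import Groth.Agent.DimTrdeg.Basic
import Groth.Agent.BMCoh.Topology

/-!
# Dimension of the closure of a point of a scheme locally of finite type over a field
-/

set_option autoImplicit false
universe u

open AlgebraicGeometry CategoryTheory TopologicalSpace Topology Order

noncomputable section

namespace Groth.Agent.DimTrdeg

/-- Every element of the residue field is a fraction of values of sections on an affine open. -/
lemma exists_evaluation_fraction {X : Scheme.{u}} {U : X.Opens} (hU : IsAffineOpen U) (x : X)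
    (hx : x ∈ U) (z : X.residueField x) :
    ∃ a b : Γ(X, U), (X.evaluation U x hx).hom b ≠ 0 ∧
      z * (X.evaluation U x hx).hom b = (X.evaluation U x hx).hom a := by
  obtain ⟨s, rfl⟩ := X.residue_surjective x z
  let := (X.presheaf.germ U x hx).hom.toAlgebra
  have := hU.isLocalization_stalk ⟨x, hx⟩
  obtain ⟨⟨a, b⟩, hab⟩ := IsLocalization.surj (hU.primeIdealOf ⟨x, hx⟩).asIdeal.primeCompl s
  refine ⟨a, b, ?_, ?_⟩
  · have hu : IsUnit ((X.presheaf.germ U x hx).hom b.1) := IsLocalization.map_units _ b
    exact (hu.map (X.residue x).hom).ne_zero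
  · have h := congrArg (X.residue x).hom hab
    rw [map_mul] at h
    exact h

variable {k : Type u} [Field k]

/-- The map from the ground field into a residue field of its spectrum is bijective. -/
lemma bijective_evaluation_Spec (y : Spec (CommRingCat.of k)) :
    Function.Bijective ((Scheme.ΓSpecIso (CommRingCat.of k)).inv ≫
      (Spec (CommRingCat.of k)).Γevaluation y).hom := by
  refine ⟨RingHom.injective _, fun z => ?_⟩
  obtain ⟨a, b, hb, h⟩ := exists_evaluation_fraction (isAffineOpen_top _) y trivial z
  let φ := (Scheme.ΓSpecIso (CommRingCat.of k)).commRingCatIsoToRingEquiv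
  refine ⟨φ a / φ b, ?_⟩
  rw [map_div₀, CommRingCat.hom_comp, RingHom.comp_apply, RingHom.comp_apply]
  have e : ∀ c, (Scheme.ΓSpecIso (CommRingCat.of k)).inv.hom (φ c) = c :=
    fun c => φ.symm_apply_apply c
  rw [e, e, div_eq_iff hb, h]

/-- The dimension of a closed subset of an affine open, as the dimension of the quotient. -/
lemma topologicalKrullDim_closure_inter (R : CommRingCat.{u}) (p : Spec R) :
    topologicalKrullDim (closure ({p} : Set (Spec R))) = ringKrullDim (R ⧸ p.asIdeal) := by
  rw [← PrimeSpectrum.topologicalKrullDim_eq_ringKrullDim]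
  have hc : IsClosedEmbedding (PrimeSpectrum.comap (Ideal.Quotient.mk p.asIdeal)) :=
    PrimeSpectrum.isClosedEmbedding_comap_of_surjective _ _ Ideal.Quotient.mk_surjective
  have hr : Set.range (PrimeSpectrum.comap (Ideal.Quotient.mk p.asIdeal)) =
      (closure ({p} : Set (Spec R)) : Set (PrimeSpectrum R)) := by
    refine (_root_.range_comap_of_surjective _ _ Ideal.Quotient.mk_surjective).trans ?_
    rw [Ideal.mk_ker]
    exact (PrimeSpectrum.closure_singleton p).symm
  exact ((hc.isEmbedding.toHomeomorph.trans (Homeomorph.setCongr hr)).isHomeomorph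
    |>.topologicalKrullDim_eq).symm

/-- For `X` locally of finite type over a field, the dimension of the closure of a point is the
transcendence degree of its residue field. -/
theorem exists_dim_closure_eq_trdeg {X : Scheme.{u}} (f : X ⟶ Spec (CommRingCat.of k))
    [LocallyOfFiniteType f] (x : X) :
    ∃ n : ℕ,
      (letI := (f.residueFieldMap x).hom.toAlgebra
       Algebra.trdeg ((Spec (CommRingCat.of k)).residueField (f x)) (X.residueField x)) = n ∧
      topologicalKrullDim (closure ({x} : Set X)) = n := by
  -- the transcendence degree over `k` seen on one affine open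
  have key : ∀ (U : X.Opens) (hU : IsAffineOpen U) (hx : x ∈ U), ∃ n : ℕ,
      (letI := (f.residueFieldMap x).hom.toAlgebra
       Algebra.trdeg ((Spec (CommRingCat.of k)).residueField (f x)) (X.residueField x)) = n ∧
      topologicalKrullDim (closure ({hU.primeIdealOf ⟨x, hx⟩} : Set (Spec Γ(X, U)))) = n := by
    intro U hU hx
    let κ := X.residueField x
    let κ₀ := (Spec (CommRingCat.of k)).residueField (f x)
    let e₀ : CommRingCat.of k ⟶ κ₀ := (Scheme.ΓSpecIso (CommRingCat.of k)).inv ≫
      (Spec (CommRingCat.of k)).Γevaluation (f x)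
    let φ : CommRingCat.of k ⟶ Γ(X, U) :=
      (Scheme.ΓSpecIso (CommRingCat.of k)).inv ≫ f.appLE ⊤ U (by simp)
    let ev := X.evaluation U x hx
    have hcomp : φ ≫ ev = e₀ ≫ f.residueFieldMap x := by
      simp only [φ, e₀, ev, Category.assoc, Scheme.Γevaluation_naturality]
      congr 1
      simp only [Scheme.Hom.appLE, Scheme.evaluation, Scheme.Γevaluation, Category.assoc]
      erw [X.presheaf.germ_res_assoc]
      rfl
    algebraize [φ.hom, (f.residueFieldMap x).hom]
    let : Algebra Γ(X, U) κ := ev.hom.toAlgebra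
    let : Algebra k κ₀ := e₀.hom.toAlgebra
    let : Algebra k κ := (φ ≫ ev).hom.toAlgebra
    have : IsScalarTower k Γ(X, U) κ := IsScalarTower.of_algebraMap_eq' rfl
    have : IsScalarTower k κ₀ κ := IsScalarTower.of_algebraMap_eq' (congrArg CommRingCat.Hom.hom hcomp)
    have : Algebra.FiniteType k Γ(X, U) := by
      refine (RingHom.finiteType_algebraMap).mp ?_
      exact (f.finiteType_appLE (isAffineOpen_top _) hU (by simp)).comp
        (RingHom.FiniteType.of_surjective _
          (Scheme.ΓSpecIso (CommRingCat.of k)).commRingCatIsoToRingEquiv.symm.surjective)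
    have : Algebra.IsAlgebraic k κ₀ := by
      refine ⟨fun z => ?_⟩
      obtain ⟨c, rfl⟩ := (bijective_evaluation_Spec (f x)).2 z
      exact isAlgebraic_algebraMap c
    have h₁ : Algebra.trdeg κ₀ κ = Algebra.trdeg k κ := by
      rw [← trdeg_add_eq k κ₀ (A := κ), trdeg_eq_zero (R := k) (A := κ₀), zero_add]
    -- the quotient by the prime of `x`
    let p := (hU.primeIdealOf ⟨x, hx⟩).asIdeal
    have hker : RingHom.ker ev.hom = p := by
      ext a
      rw [RingHom.mem_ker]
      let := (X.presheaf.germ U x hx).hom.toAlgebra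
      have := hU.isLocalization_stalk ⟨x, hx⟩
      rw [show ev.hom a = X.residue x ((X.presheaf.germ U x hx).hom a) from rfl]
      exact (IsLocalRing.residue_eq_zero_iff _).trans
        (IsLocalization.AtPrime.to_map_mem_maximal_iff (X.presheaf.stalk x) p a)
    let ψ : Γ(X, U) ⧸ p →ₐ[k] κ :=
      Ideal.Quotient.liftₐ p (IsScalarTower.toAlgHom k Γ(X, U) κ) (fun a ha => hker.ge ha)
    have hψ : Function.Injective ψ :=
      RingHom.lift_injective_of_ker_le_ideal p (fun a ha => hker.ge ha) hker.le
    let : Algebra (Γ(X, U) ⧸ p) κ := ψ.toRingHom.toAlgebra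
    have : IsScalarTower k (Γ(X, U) ⧸ p) κ :=
      IsScalarTower.of_algebraMap_eq fun c => (ψ.commutes c).symm
    have : FaithfulSMul (Γ(X, U) ⧸ p) κ := (faithfulSMul_iff_algebraMap_injective _ _).mpr hψ
    have : IsFractionRing (Γ(X, U) ⧸ p) κ := by
      refine IsFractionRing.of_field _ _ fun z => ?_
      obtain ⟨a, b, hb, h⟩ := exists_evaluation_fraction hU x hx z
      refine ⟨Ideal.Quotient.mk p a, Ideal.Quotient.mk p b, ?_⟩
      exact ((div_eq_iff hb).mpr h.symm).symm
    obtain ⟨n, hn, hn'⟩ := exists_trdeg_eq_ringKrullDim k (Γ(X, U) ⧸ p)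
    refine ⟨n, ?_, ?_⟩
    · exact h₁.trans ((trdeg_fractionRing k (Γ(X, U) ⧸ p) κ).trans hn)
    · exact (topologicalKrullDim_closure_inter _ _).trans hn'
  obtain ⟨U₀, hU₀, hx₀, -⟩ := exists_isAffineOpen_mem_and_subset (X := X) (x := x) (U := ⊤) trivial
  obtain ⟨n, hn, hn'⟩ := key U₀ hU₀ hx₀
  refine ⟨n, hn, le_antisymm (iSup_le fun l => ?_) ?_⟩
  · -- a chain lives in one affine open
    let g := IrreducibleCloseds.map (Subtype.val : closure ({x} : Set X) → X) continuous_subtype_val
    have hg : StrictMono g := IrreducibleCloseds.map_strictMono_of_isInducing IsInducing.subtypeVal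
    let L : LTSeries (IrreducibleCloseds X) := l.map g hg
    have hLx : ∀ i, (L i : Set X) ⊆ closure {x} := fun i => by
      refine closure_minimal ?_ isClosed_closure
      rintro _ ⟨y, -, rfl⟩
      exact y.2
    obtain ⟨y, hy⟩ := L.head.isIrreducible.nonempty
    obtain ⟨U, hU, hyU, -⟩ := exists_isAffineOpen_mem_and_subset (X := X) (x := y) (U := ⊤) trivial
    have hxU : x ∈ U := (specializes_iff_mem_closure.mpr (hLx 0 hy)).mem_open U.isOpen hyU
    obtain ⟨m, hm, hm'⟩ := key U hU hxU
    have hmn : m = n := by exact_mod_cast hm.symm.trans hn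
    subst hmn
    have hmem : ∀ i, y ∈ (L i : Set X) := fun i => L.monotone (Fin.zero_le i) hy
    have hyr : y ∈ Set.range hU.fromSpec := by rw [hU.range_fromSpec]; exact hyU
    obtain ⟨y', rfl⟩ := hyr
    let G : Fin (L.length + 1) → IrreducibleCloseds (Spec Γ(X, U)) := fun i =>
      ⟨hU.fromSpec ⁻¹' (L i : Set X),
        (L i).isIrreducible.preimage hU.fromSpec.isOpenEmbedding ⟨hU.fromSpec y', hmem i, y', rfl⟩,
        (L i).isClosed.preimage hU.fromSpec.continuous⟩
    have hG : StrictMono G := by
      intro i j hij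
      refine lt_of_le_of_ne (fun _ h => (L.strictMono hij).le h) fun he => ?_
      refine (L.strictMono hij).not_ge fun z hz => ?_
      have hd := subset_closure_inter_of_isPreirreducible_of_isOpen
        (L j).isIrreducible.2 U.isOpen ⟨_, hmem j, hyU⟩ hz
      refine (closure_minimal ?_ (L i).isClosed) hd
      rintro w ⟨hwj, hwU⟩
      obtain ⟨w', rfl⟩ : w ∈ Set.range hU.fromSpec := by rw [hU.range_fromSpec]; exact hwU
      exact he.ge hwj
    have hbound := BMCoh.length_le_topologicalKrullDim
      (closure ({hU.primeIdealOf ⟨x, hxU⟩} : Set (Spec Γ(X, U))))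
      ⟨L.length, G, fun i => hG (Fin.castSucc_lt_succ (i := i))⟩ fun i z hz => by
        have h' : hU.fromSpec (hU.primeIdealOf ⟨x, hxU⟩) ⤳ hU.fromSpec z := by
          rw [hU.fromSpec_primeIdealOf]
          exact specializes_iff_mem_closure.mpr (hLx i hz)
        exact specializes_iff_mem_closure.mp
          (hU.fromSpec.isOpenEmbedding.isInducing.specializes_iff.mp h')
    exact hbound.trans hm'.le
  · rw [← hn']
    have hsub : ∀ z ∈ closure ({hU₀.primeIdealOf ⟨x, hx₀⟩} : Set (Spec Γ(X, U₀))),
        hU₀.fromSpec z ∈ closure ({x} : Set X) := fun z hz => by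
      have h := ((specializes_iff_mem_closure.mpr hz).map hU₀.fromSpec.continuous)
      rw [hU₀.fromSpec_primeIdealOf] at h
      exact specializes_iff_mem_closure.mp h
    refine (IsInducing.topologicalKrullDim_le (f := fun z => ⟨hU₀.fromSpec z.1, hsub z.1 z.2⟩) ?_)
    exact IsInducing.of_comp (by fun_prop) continuous_subtype_val
      (hU₀.fromSpec.isOpenEmbedding.isInducing.comp IsInducing.subtypeVal)

end Groth.Agent.DimTrdeg

end
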