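import Mathlib
import Groth.Prelude.Def_CurvBase
import Groth.Agent.DimTrdeg.Scheme

set_option autoImplicit false

universe u

open AlgebraicGeometry CategoryTheory

attribute [local instance] Curv2.resAlgebra

namespace Groth.Agent.DimTrdeg

theorem exists_dim_closure_eq_trdeg_over (k : Type u) [Field k] (X : Scheme.{u})
    [X.Over (Spec (CommRingCat.of k))] [LocallyOfFiniteType (X ↘ Spec (CommRingCat.of k))] (x : X) :
    ∃ n : ℕ, Algebra.trdeg k (X.residueField x) = n ∧
      topologicalKrullDim (closure ({x} : Set X)) = n := by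
  let f := X ↘ Spec (CommRingCat.of k)
  obtain ⟨n, hn, hn'⟩ := exists_dim_closure_eq_trdeg f x
  refine ⟨n, ?_, hn'⟩
  let κ₀ := (Spec (CommRingCat.of k)).residueField (f x)
  let κ := X.residueField x
  let e₀ : CommRingCat.of k ⟶ κ₀ := (Scheme.ΓSpecIso (CommRingCat.of k)).inv ≫
    (Spec (CommRingCat.of k)).Γevaluation (f x)
  let : Algebra κ₀ κ := (f.residueFieldMap x).hom.toAlgebra
  let : Algebra k κ₀ := e₀.hom.toAlgebra
  have hc : ∀ c, algebraMap k κ c = algebraMap κ₀ κ (algebraMap k κ₀ c) := fun c => by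
    have h : e₀ ≫ f.residueFieldMap x =
        (Scheme.ΓSpecIso (CommRingCat.of k)).inv ≫ f.appTop ≫ X.Γevaluation x := by
      simp only [e₀, Category.assoc, Scheme.Γevaluation_naturality]
    exact (congrArg (fun g => g.hom c) h).symm
  have : IsScalarTower k κ₀ κ := IsScalarTower.of_algebraMap_eq hc
  have : Algebra.IsAlgebraic k κ₀ := by
    refine ⟨fun z => ?_⟩
    obtain ⟨c, rfl⟩ := (bijective_evaluation_Spec (f x)).2 z
    exact isAlgebraic_algebraMap c
  rw [← trdeg_add_eq k κ₀ (A := κ), trdeg_eq_zero (R := k) (A := κ₀), zero_add]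
  exact hn

theorem dim_eq_of_trdeg (k : Type u) [Field k] (X : Scheme.{u}) [X.Over (Spec (CommRingCat.of k))]
    [LocallyOfFiniteType (X ↘ Spec (CommRingCat.of k))] [IrreducibleSpace X] :
    ∃ n : ℕ, Algebra.trdeg k (X.residueField (genericPoint X)) = n ∧ topologicalKrullDim X = n := by
  obtain ⟨n, hn, hd⟩ := exists_dim_closure_eq_trdeg_over k X (genericPoint X)
  refine ⟨n, hn, ?_⟩
  have h : closure ({genericPoint X} : Set X) = Set.univ := (genericPoint_spec X).def
  rw [← hd, h]
  exact ((Homeomorph.Set.univ X).isHomeomorph.topologicalKrullDim_eq).symm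

theorem dim_open_eq (k : Type u) [Field k] (X : Scheme.{u}) [X.Over (Spec (CommRingCat.of k))]
    [LocallyOfFiniteType (X ↘ Spec (CommRingCat.of k))] [IrreducibleSpace X] (U : X.Opens)
    (hU : (U : Set X).Nonempty) : topologicalKrullDim U = topologicalKrullDim X := by
  let W : Scheme.{u} := U
  letI oW : W.Over (Spec (CommRingCat.of k)) := ⟨U.ι ≫ (X ↘ Spec (CommRingCat.of k))⟩
  haveI : LocallyOfFiniteType (W ↘ Spec (CommRingCat.of k)) :=
    inferInstanceAs (LocallyOfFiniteType (U.ι ≫ (X ↘ Spec (CommRingCat.of k))))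
  haveI : Nonempty W := hU.to_subtype
  haveI : IrreducibleSpace W :=
    { toPreirreducibleSpace := Subtype.preirreducibleSpace ((PreirreducibleSpace.isPreirreducible_univ (X := X)).open_subset U.2 (Set.subset_univ _))
      toNonempty := inferInstance }
  obtain ⟨n, hn, hd⟩ := dim_eq_of_trdeg k X
  obtain ⟨m, hm, hd'⟩ := dim_eq_of_trdeg k W
  have hξ : U.ι (genericPoint W) = genericPoint X := genericPoint_eq_of_isOpenImmersion U.ι
  obtain ⟨e, he⟩ : ∃ x, x = U.ι (genericPoint W) := ⟨_, rfl⟩
  have hn' : Algebra.trdeg k (X.residueField (U.ι (genericPoint W))) = n := by rw [hξ]; exact hn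
  haveI : IsIso (U.ι.residueFieldMap (genericPoint W)) := inferInstance
  let ψ : X.residueField (U.ι (genericPoint W)) ≃ₐ[k] W.residueField (genericPoint W) :=
    AlgEquiv.ofRingEquiv (f := (asIso (U.ι.residueFieldMap (genericPoint W))).commRingCatIsoToRingEquiv) fun c => by
      have h := Scheme.Γevaluation_naturality U.ι (genericPoint W)
      exact congrArg (fun g => g.hom ((X ↘ Spec (CommRingCat.of k)).appTop.hom
        ((Scheme.ΓSpecIso (CommRingCat.of k)).inv.hom c))) h
  have hmn : m = n := by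
    have := ψ.trdeg_eq
    rw [hn', hm] at this
    exact_mod_cast this.symm
  show topologicalKrullDim W = _
  rw [hd, hd', hmn]

end Groth.Agent.DimTrdeg
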